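import Mathlib

/-!
# Noether normalisation over a domain
-/

universe u

open TensorProduct

namespace Groth.Agent.CAlgNoetherDom

variable {R S : Type u} [CommRing R] [IsDomain R] [CommRing S] [Algebra R S]

/-- Integrality from a relation killed by `t`. -/
lemma isIntegral_of_smul_eq_zero {A : Type u} [CommRing A] [Algebra A S] {z : S} (t : A)
    {P : Polynomial A} (hP : P.Monic) (h : algebraMap A S t * Polynomial.aeval z P = 0) :
    IsIntegral A (algebraMap A S t * z) := by
  by_cases hn : P.natDegree = 0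
  · have h1 : P = 1 := hP.natDegree_eq_zero.1 hn
    rw [h1, map_one, mul_one] at h
    rw [h, zero_mul]
    exact isIntegral_zero
  refine ⟨P.scaleRoots t, (Polynomial.monic_scaleRoots_iff t).2 hP, ?_⟩
  rw [Polynomial.scaleRoots_eval₂_mul, ← Nat.sub_add_cancel (Nat.pos_of_ne_zero hn), pow_succ,
    mul_assoc, ← Polynomial.aeval_def, h, mul_zero]

attribute [local instance] MvPolynomial.algebraMvPolynomial in
/-- Noether normalisation over a domain after inverting one element. -/
theorem exists_normalization [Algebra.FiniteType R S] (hinj : Function.Injective (algebraMap R S)) :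
    ∃ (d : ℕ) (y : Fin d → S) (S' : Subalgebra R S), AlgebraicIndependent R y ∧ (∀ i, y i ∈ S') ∧ S'.FG ∧
      (∀ s ∈ S', IsIntegral (Algebra.adjoin R (Set.range y)) s) ∧
      ∃ f : R, f ≠ 0 ∧ ∀ s : S, ∃ n : ℕ, (f ^ n) • s ∈ S' := by
  classical
  let K := FractionRing R
  let B := K ⊗[R] S
  letI : Algebra S B := Algebra.TensorProduct.rightAlgebra
  let M := Algebra.algebraMapSubmonoid S (nonZeroDivisors R)
  haveI : IsLocalization M B := inferInstance
  have h0 : (0 : S) ∉ M := by
    rintro ⟨r, hr, e⟩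
    exact nonZeroDivisors.ne_zero hr (hinj (by rw [e, map_zero]))
  haveI : Nontrivial B := nontrivial_of_ne 0 1 fun e => by
    have hS : algebraMap S B 1 = algebraMap S B 0 := by rw [map_one, map_zero]; exact e.symm
    obtain ⟨⟨c, hc⟩, hcc⟩ := IsLocalization.exists_of_eq (M := M) hS
    have h1 : c * 1 = c * 0 := hcc
    rw [mul_one, mul_zero] at h1
    exact h0 (h1 ▸ hc)
  obtain ⟨d, g, hginj, hgint⟩ := exists_integral_inj_algHom_of_fg (k := K) (R := B)
  have hnum : ∀ b : B, ∃ (m : R) (s : S), m ≠ 0 ∧ algebraMap R B m * b = algebraMap S B s := fun b => by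
    obtain ⟨⟨s, ⟨_, m, hm, rfl⟩⟩, hs⟩ := IsLocalization.surj M b
    refine ⟨m, s, nonZeroDivisors.ne_zero hm, ?_⟩
    have e : algebraMap S B (algebraMap R S m) = algebraMap R B m := by
      show (1 : K) ⊗ₜ[R] algebraMap R S m = algebraMap R K m ⊗ₜ[R] (1 : S)
      rw [Algebra.algebraMap_eq_smul_one, Algebra.algebraMap_eq_smul_one, TensorProduct.smul_tmul]
    rw [mul_comm, ← e]
    exact hs
  choose m y hm hy using fun i => hnum (g (MvPolynomial.X i))
  have hmK : ∀ i, algebraMap R K (m i) ≠ 0 := fun i =>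
    (map_ne_zero_iff _ (IsFractionRing.injective R K)).2 (hm i)
  let σ : MvPolynomial (Fin d) K →ₐ[K] MvPolynomial (Fin d) K :=
    MvPolynomial.aeval fun i => MvPolynomial.C (algebraMap R K (m i)) * MvPolynomial.X i
  let τ : MvPolynomial (Fin d) K →ₐ[K] MvPolynomial (Fin d) K :=
    MvPolynomial.aeval fun i => MvPolynomial.C (algebraMap R K (m i))⁻¹ * MvPolynomial.X i
  have hστ : σ.comp τ = AlgHom.id K _ := MvPolynomial.algHom_ext fun i => by
    simp only [σ, τ, AlgHom.comp_apply, MvPolynomial.aeval_X, map_mul, MvPolynomial.aeval_C,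
      MvPolynomial.algebraMap_eq, AlgHom.id_apply]
    rw [← mul_assoc, ← map_mul, inv_mul_cancel₀ (hmK i), map_one, one_mul]
  have hτσ : τ.comp σ = AlgHom.id K _ := MvPolynomial.algHom_ext fun i => by
    simp only [σ, τ, AlgHom.comp_apply, MvPolynomial.aeval_X, map_mul, MvPolynomial.aeval_C,
      MvPolynomial.algebraMap_eq, AlgHom.id_apply]
    rw [← mul_assoc, ← map_mul, mul_inv_cancel₀ (hmK i), map_one, one_mul]
  let g' := g.comp σ
  have hg'inj : Function.Injective g' := hginj.comp
    (Function.LeftInverse.injective (g := τ) fun x => DFunLike.congr_fun hτσ x)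
  have hg'X : ∀ i, g' (MvPolynomial.X i) = algebraMap S B (y i) := fun i => by
    show g (σ _) = _
    simp only [σ, MvPolynomial.aeval_X, map_mul, ← MvPolynomial.algebraMap_eq, AlgHom.commutes]
    rw [← IsScalarTower.algebraMap_apply]
    exact hy i
  have hg'int : g'.toRingHom.IsIntegral :=
    RingHom.IsIntegral.trans σ.toRingHom g.toRingHom
      (RingHom.isIntegral_of_surjective _ fun x => ⟨τ x, DFunLike.congr_fun hστ x⟩) hgint
  let P₀ := MvPolynomial (Fin d) R
  let j : P₀ →ₐ[R] S := MvPolynomial.aeval y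
  let inc : S →ₐ[R] B := Algebra.TensorProduct.includeRight
  have hcomp : ∀ P : P₀, g' (MvPolynomial.map (algebraMap R K) P) = inc (j P) := by
    have : (g'.restrictScalars R).comp (IsScalarTower.toAlgHom R P₀ (MvPolynomial (Fin d) K)) = inc.comp j :=
      MvPolynomial.algHom_ext fun i => by
        show g' (MvPolynomial.map (algebraMap R K) (MvPolynomial.X i)) = inc (j (MvPolynomial.X i))
        rw [MvPolynomial.map_X, hg'X]
        simp [j, inc]
        rw [MvPolynomial.aeval_X]; rfl
    exact fun P => DFunLike.congr_fun this P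
  have hjinj : Function.Injective j := fun a b e =>
    MvPolynomial.map_injective _ (IsFractionRing.injective R K) (hg'inj (by rw [hcomp, hcomp, e]))
  let T := Algebra.adjoin R (Set.range y)
  letI : Algebra P₀ S := j.toRingHom.toAlgebra
  letI : Algebra (MvPolynomial (Fin d) K) B := g'.toRingHom.toAlgebra
  letI : Algebra P₀ B := ((algebraMap S B).comp j.toRingHom).toAlgebra
  haveI : IsScalarTower P₀ (MvPolynomial (Fin d) K) B :=
    IsScalarTower.of_algebraMap_eq fun P => (hcomp P).symm
  haveI : IsScalarTower P₀ S B := IsScalarTower.of_algebraMap_eq fun P => rfl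
  have key : ∀ x : S, ∃ c : R, c ≠ 0 ∧ IsIntegral P₀ (algebraMap R S c * x) := by
    intro x
    obtain ⟨⟨_, m₀, hm₀, rfl⟩, hint⟩ := IsIntegral.exists_multiple_integral_of_isLocalization (S := B)
      ((nonZeroDivisors R).map (MvPolynomial.C : R →+* P₀)) (Rₘ := MvPolynomial (Fin d) K)
      (algebraMap S B x) (hg'int _)
    let z : S := algebraMap R S m₀ * x
    have hz : IsIntegral P₀ (algebraMap S B z) := by
      rw [Submonoid.smul_def, Algebra.smul_def,
        show algebraMap P₀ B (MvPolynomial.C m₀) = algebraMap S B (algebraMap R S m₀) from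
          congrArg (algebraMap S B) (MvPolynomial.aeval_C y m₀), ← map_mul] at hint
      exact hint
    obtain ⟨Q, hQ, hQz⟩ := hz
    have hQ' : algebraMap S B (Polynomial.aeval z Q) = algebraMap S B 0 := by
      rw [map_zero, ← Polynomial.aeval_algebraMap_apply]; exact hQz
    obtain ⟨⟨_, t, ht, rfl⟩, htt⟩ := IsLocalization.exists_of_eq (M := M) hQ'
    refine ⟨t * m₀, mul_ne_zero (nonZeroDivisors.ne_zero ht) (nonZeroDivisors.ne_zero hm₀), ?_⟩
    have e : algebraMap P₀ S (MvPolynomial.C t) = algebraMap R S t := MvPolynomial.aeval_C y t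
    have := isIntegral_of_smul_eq_zero (MvPolynomial.C t : P₀) hQ
      (by rw [e]; simpa using htt)
    rw [e] at this
    rwa [map_mul, mul_assoc]
  obtain ⟨G, hG⟩ := ‹Algebra.FiniteType R S›.out
  choose c hc hcint using key
  let gens : Finset S := (Finset.univ.image y) ∪ G.image fun x => algebraMap R S (c x) * x
  let S' := Algebra.adjoin R (gens : Set S)
  have hyT : ∀ P : P₀, j P ∈ T := fun P => by
    show MvPolynomial.aeval y P ∈ Algebra.adjoin R (Set.range y)
    rw [Algebra.adjoin_range_eq_range_aeval]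
    exact ⟨P, rfl⟩
  have hPT : ∀ s : S, IsIntegral P₀ s → IsIntegral T s := fun s ⟨Q, hQ, hQs⟩ => by
    refine ⟨Q.map (j.toRingHom.codRestrict T.toSubring hyT), hQ.map _, ?_⟩
    rw [Polynomial.eval₂_map]
    exact hQs
  let f := ∏ x ∈ G, c x
  refine ⟨d, y, S', hjinj,
    fun i => Algebra.subset_adjoin (Finset.mem_union_left _ (Finset.mem_image_of_mem y (Finset.mem_univ i))),
    ⟨gens, rfl⟩, fun s hs => ?_, f, Finset.prod_ne_zero_iff.2 fun x _ => hc x, fun s => ?_⟩
  · induction hs using Algebra.adjoin_induction with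
    | mem w hw =>
      rcases Finset.mem_union.1 (Finset.mem_coe.1 hw) with h | h
      · obtain ⟨i, -, rfl⟩ := Finset.mem_image.1 h
        exact isIntegral_algebraMap (R := T) (x := ⟨y i, Algebra.subset_adjoin ⟨i, rfl⟩⟩)
      · obtain ⟨x, -, rfl⟩ := Finset.mem_image.1 h
        exact hPT _ (hcint x)
    | algebraMap r => exact isIntegral_algebraMap (R := T) (x := algebraMap R T r)
    | add a b _ _ ha hb => exact ha.add hb
    | mul a b _ _ ha hb => exact ha.mul hb
  · have hs : s ∈ Algebra.adjoin R (G : Set S) := hG ▸ Algebra.mem_top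
    induction hs using Algebra.adjoin_induction with
    | mem w hw =>
      refine ⟨1, ?_⟩
      obtain ⟨e, he⟩ := Finset.dvd_prod_of_mem c (Finset.mem_coe.1 hw)
      rw [pow_one, show f = c w * e from he, mul_comm, mul_smul, Algebra.smul_def (c w)]
      exact S'.smul_mem (Algebra.subset_adjoin (Finset.mem_union_right _ (Finset.mem_image_of_mem _ (Finset.mem_coe.1 hw)))) e
    | algebraMap r => exact ⟨0, by rw [pow_zero, one_smul]; exact S'.algebraMap_mem r⟩
    | add a b _ _ ha hb =>
      obtain ⟨k, hk⟩ := ha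
      obtain ⟨l, hl⟩ := hb
      refine ⟨k + l, ?_⟩
      rw [smul_add]
      refine add_mem ?_ ?_
      · rw [pow_add, mul_comm, mul_smul]; exact S'.smul_mem hk _
      · rw [pow_add, mul_smul]; exact S'.smul_mem hl _
    | mul a b _ _ ha hb =>
      obtain ⟨k, hk⟩ := ha
      obtain ⟨l, hl⟩ := hb
      refine ⟨k + l, ?_⟩
      rw [pow_add, show (f ^ k * f ^ l) • (a * b) = (f ^ k • a) * (f ^ l • b) from (smul_mul_smul_comm _ _ _ _).symm]
      exact mul_mem hk hl

end Groth.Agent.CAlgNoetherDom
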